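import Mathlib
import Cfsg.Agent.Lib.AltE7.Main
import Cfsg.Agent.Lib.AltE8.F8
import Cfsg.Agent.Lib.AltE8.W16

/-!
Alternating sections of the groups of type `E₈`.
-/

set_option autoImplicit false
set_option linter.unusedSectionVars false

namespace H5.AE

open Module Equiv Equiv.Perm H82.AG H5.E8T Cfsg Cfsg.Lie
open List (formPerm)

universe u

variable {p : ℕ} [Fact p.Prime] {k V : Type} [Field k] [IsAlgClosed k] [CharP k p] [AddCommGroup V] [Module k V]
  [FiniteDimensional k V] {H : Type u} [Group H] {ρ : H →* End k V} {a : ℕ}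

lemma sum_cf {c d : ℕ} {A M : Fin c → ℕ} (h : d = ∑ j, A j * M j) (B : Fin c → ℕ) (hB : ∀ j, A j = B j) :
    d = ∑ j, B j * M j := by simpa only [hB] using h

theorem mult_two {Ω : Type} [DecidableEq Ω] [Fintype Ω] {π : H →* Perm Ω} (hx : Cx π) (ρ : H →* End k V) {ω : k}
    (hω : IsPrimitiveRoot ω 3) (Y : Submodule k V) (x : Fin 2 → H) (h3 : ∀ a, x a ^ 3 = 1)
    (hc : π (x 0) * π (x 1) = π (x 1) * π (x 0)) (hY : ∀ a, ∀ v ∈ Y, ρ (x a) v ∈ Y) {J : ℕ} (g : Fin J → H)
    (hg : ∀ j, ∀ v ∈ Y, ρ (g j) v ∈ Y) (s t : Fin J → Fin 2 → ℕ)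
    (h : ∀ j a, π (x a) * π (g j) = π (g j) * (π (x 0) ^ s j a * π (x 1) ^ t j a))
    (hi : ∀ j, Function.Injective (act fun a (e : Fin 2 → Fin 3) => e 0 * s j a + e 1 * t j a))
    {c : ℕ} {cl dp rep : ℕ → ℕ}
    (hC : cert (fun j a (e : Fin 2 → Fin 3) => e 0 * s j a + e 1 * t j a) c cl dp rep = true) :
    ∃ M : Fin c → ℕ, ∀ {m : ℕ} (y : Fin m → End k V) (ψ : Fin m → (Fin 2 → Fin 3) → ℕ) (μ : Fin m → Fin 3),
      (∀ s, Ex ω (fun a => ρ (x a)) (y s) (ψ s)) → ∀ U : Submodule k V,
        (∀ v, v ∈ U ↔ v ∈ Y ∧ ∀ s, y s v = ω ^ (μ s : ℕ) • v) →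
          finrank k U = ∑ j : Fin c, cfN (fun e => decide (∀ s, ψ s e % 3 = μ s)) cl j * M j := by
  have h1 : ∀ a, Od (x a) := fun a => ⟨3, by decide, h3 a⟩
  have h2 : Commute (x 0) (x 1) := hx.comm (h1 1) hc
  refine mult_amb (x := fun a => ρ (x a)) hω Y (fun a b => Commute.map ?_ ρ) (fun a => by rw [← map_pow, h3, map_one])
    hY (fun j => ρ (g j)) (fun j => inj_of ρ _) hg (fun j a => ⟨_, ?_, ((Ex.gen 0).pow (s j a)).mul
      ((Ex.gen 1).pow (t j a))⟩) hi hC
  · fin_cases a <;> fin_cases b
    exacts [.refl _, h2, h2.symm, .refl _]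
  · rw [← map_pow, ← map_pow, ← map_mul, ← map_mul, ← map_mul, hx.rel (h1 a) (b := x 0 ^ s j a * x 1 ^ t j a) (m := 1)
      ⟨3, by decide, by rw [(h2.pow_pow _ _).mul_pow, ← pow_mul, ← pow_mul, mul_comm _ 3, mul_comm _ 3, pow_mul, pow_mul,
        h3, h3, one_pow, one_pow, mul_one]⟩ (by rw [pow_one, map_mul, map_pow, map_pow, h]), pow_one]

/-- Commuting cycles. -/
def cc18 : Fin 6 → Perm (Fin 18) := ![formPerm [0, 1, 2], formPerm [3, 4, 5], formPerm [6, 7, 8], formPerm [9, 10, 11], formPerm [12, 13, 14], formPerm [15, 16, 17]]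

/-- Elements normalising the group they generate. -/
def gn18 : Fin 3 → Perm (Fin 18) := ![formPerm [1, 2] * formPerm [4, 5], formPerm [0, 3] * formPerm [1, 4] * formPerm [2, 5] * formPerm [7, 8], formPerm [3, 6, 9, 12, 15] * formPerm [4, 7, 10, 13, 16] * formPerm [5, 8, 11, 14, 17]]

/-- The permutations of the blocks. -/
def sg18 : Fin 3 → Fin 6 → Fin 6 := ![![0, 1, 2, 3, 4, 5], ![1, 0, 2, 3, 4, 5], ![0, 5, 1, 2, 3, 4]]

/-- The multipliers. -/
def sn18 : Fin 3 → Fin 6 → ℕ := ![![2, 2, 1, 1, 1, 1], ![1, 1, 2, 1, 1, 1], ![1, 1, 1, 1, 1, 1]]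

/-- The classes. -/
def cl18 : ℕ → ℕ := byt 0x60605060605050504060605060605050504050504050504040403060605060605050504060605060605050504050504050504040403050504050504040403050504050504040403040403040403030302060605060605050504060605060605050504050504050504040403060605060605050504060605060605050504050504050504040403050504050504040403050504050504040403040403040403030302050504050504040403050504050504040403040403040403030302050504050504040403050504050504040403040403040403030302040403040403030302040403040403030302030302030302020201060605060605050504060605060605050504050504050504040403060605060605050504060605060605050504050504050504040403050504050504040403050504050504040403040403040403030302060605060605050504060605060605050504050504050504040403060605060605050504060605060605050504050504050504040403050504050504040403050504050504040403040403040403030302050504050504040403050504050504040403040403040403030302050504050504040403050504050504040403040403040403030302040403040403030302040403040403030302030302030302020201050504050504040403050504050504040403040403040403030302050504050504040403050504050504040403040403040403030302040403040403030302040403040403030302030302030302020201050504050504040403050504050504040403040403040403030302050504050504040403050504050504040403040403040403030302040403040403030302040403040403030302030302030302020201040403040403030302040403040403030302030302030302020201040403040403030302040403040403030302030302030302020201030302030302020201030302030302020201020201020201010100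

lemma cert18 : cert (q := 3) (fun j a e => e (sg18 j a) * sn18 j a) 7 cl18 (byt 0x7070807060707070806060806050807060706060706050606050606050705050707060705040704040706060606050605050605050506050905050809090a0504080404080a090a0504050404050404040707070606070707070605070605080606060605070605060605050403060404060706060303070203070505060505050404050404050504090504080908090404080303070a0909040404030304030304090908090809080907090807080808090a060a0b090a0a080a09050403070405080808060303070204070809060a0a09090a0809090504030704050808080603030702040708090603030302040402030307060707060707060706060805050706060706060605050605050606040605050607060705040703040705050605050504040504040506040a0506090a09090504090305080a0a090504040305050304050705060606060606070605070405070505060605050406060405060204060301050506060102060300070504050404050503040403040405090403090a09090303090402080a0a080303040402030302030908080808080809070808070707080909060b0b080a0b080909060304070302080708060202060301070809050b0b080a0a070908040304070302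080708060202060301070809050202030301020201020808070807070706070807080707070606060a0a060b0a060505050807060707060706060707070606070505060a09050a0a05040405090a080a0a07080806090907090a07090806090904090a050304040807060707060606070707070606070505060b0a050b0b060405060207060601050506060107060600060504050b0a050b0b04040304090a080a0a070807060809070909060908050809040909030302030807060707060606060707070606070505060909050a0906040505020706060105050606010706060006050405090805090904040304020706060105050606010706060006050405010702060001010000)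
    (fun j => [0, 1, 4, 13, 40, 121, 364].getD j 0) = true := by decide +kernel

lemma mono18 : Mono 3 cc18 gn18 sg18 sn18 := by unfold Mono; decide +kernel

lemma arith18 {a b c d e f g : ℕ} (h : 248 = a + 12 * b + 60 * c + 160 * d + 240 * e + 192 * f + 64 * g)
    (h1 : a + 10 * b + 40 * c + 80 * d + 80 * e + 32 * f ∈ [80, 86, 92, 134])
    (h2 : a + 8 * b + 26 * c + 48 * d + 64 * e + 64 * f + 32 * g ∈ [80, 86, 92, 134]) :
    d = 0 ∧ e = 0 ∧ f = 0 ∧ g = 2 := by
  simp only [List.mem_cons, List.not_mem_nil, or_false] at h1 h2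
  have : d < 2 := by omega
  have : e < 2 := by omega
  have : f < 2 := by omega
  have : g < 4 := by omega
  have : c < 5 := by omega
  interval_cases d <;> interval_cases e <;> interval_cases f <;> interval_cases g <;> interval_cases c <;> omega

/-- Permutations of the blocks. -/
def b18 : Fin 5 → Perm (Fin 18) := ![formPerm [0, 3, 6] * formPerm [1, 4, 7] * formPerm [2, 5, 8],
  formPerm [9, 12, 15] * formPerm [10, 13, 16] * formPerm [11, 14, 17],
  formPerm [0, 9] * formPerm [1, 10] * formPerm [2, 11] * formPerm [3, 12, 6, 15] * formPerm [4, 13, 7, 16] *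
    formPerm [5, 14, 8, 17], formPerm [3, 4, 5] * formPerm [6, 8, 7], formPerm [1, 4, 7] * formPerm [2, 8, 5]]

theorem no18 (hp : p ≠ 3) {π : H →* Perm (Fin 18)} (hR : RT p T248 248 8 a ρ) (hx : Cx π) : False := by
  have : NeZero ((3 : ℕ) : k) := ⟨cast_ne (by decide) hp⟩
  obtain ⟨ω, hω⟩ := HasEnoughRootsOfUnity.exists_primitiveRoot k 3
  obtain ⟨τ, M, hτ, oτ, h1, h2, h⟩ := mult_mono hx ρ (by decide) mono18 hω cert18
  let Y : Finset (Fin 6) → Submodule k V := fun S => ⨅ a ∈ S, (ρ (τ a)).eigenspace ω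
  have hY : ∀ S v, v ∈ Y S ↔ ∀ a ∈ S, ρ (τ a) v = ω • v := fun S v => by simp [Y]
  have hI : ∀ S (z : H) (σ : Perm (Fin 18)), π z = σ → (∀ a ∈ S, ∃ b ∈ S, cc18 a * σ = σ * cc18 b) →
      ∀ v ∈ Y S, ρ z v ∈ Y S := fun S z σ hz h3 v hv => (hY _ _).2 fun a ha => by
    obtain ⟨b, hb, e⟩ := h3 a ha
    rw [← act_mul, hx.rel (oτ a) (oτ b) (m := 1) (by rw [pow_one, hτ, hτ, hz, e]), pow_one, act_mul, (hY _ _).1 hv b hb,
      map_smul]
  have m1 := sum_cf (h ![] ![] ![] (by simp) ⊤ (by simp)) ![1, 12, 60, 160, 240, 192, 64] (by decide +kernel)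
  have m2 := sum_cf (h ![ρ (τ 0)] ![_] ![0] (Fin.forall_fin_one.2 (Ex.gen 0)) ((ρ (τ 0)).eigenspace 1) (by simp))
    ![1, 10, 40, 80, 80, 32, 0] (by decide +kernel)
  have m3 := sum_cf (h ![ρ (τ 0) * ρ (τ 1)] ![_] ![0] (Fin.forall_fin_one.2 ((Ex.gen 0).mul (Ex.gen 1)))
    ((ρ (τ 0 * τ 1)).eigenspace 1) (by simp)) ![1, 8, 26, 48, 64, 64, 32] (by decide +kernel)
  have m4 := sum_cf (h (fun s : Fin 3 => ρ (τ (s.natAdd 3))) _ 1 (fun s => Ex.gen _) (Y {3, 4, 5})
    (by simp [hY, Fin.forall_fin_succ])) ![0, 0, 0, 1, 6, 12, 8] (by decide +kernel)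
  have m5 := sum_cf (h ![ρ (τ 3), ρ (τ 4), ρ (τ 5), ρ (τ 0) * ρ (τ 1) * ρ (τ 2)] ![_, _, _, _] ![1, 1, 1, 0]
    (Fin.forall_fin_succ.2 ⟨Ex.gen 3, Fin.forall_fin_succ.2 ⟨Ex.gen 4, Fin.forall_fin_succ.2 ⟨Ex.gen 5,
      Fin.forall_fin_one.2 (((Ex.gen 0).mul (Ex.gen 1)).mul (Ex.gen 2))⟩⟩⟩)
    (Y {3, 4, 5} ⊓ (ρ (τ 0 * τ 1 * τ 2)).eigenspace 1) (by simp [hY, Fin.forall_fin_succ, and_assoc]))
    ![0, 0, 0, 1, 0, 6, 2] (by decide +kernel)
  have m6 := sum_cf (h (fun s => ρ (τ s)) _ 1 Ex.gen (Y Finset.univ) (by simp [hY])) ![0, 0, 0, 0, 0, 0, 1]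
    (by decide +kernel)
  have m7 := hR.g3 hp (h1 0) (fun e => absurd (e ▸ hτ 0) (by rw [map_one]; decide +kernel)) hω
  have m8 := hR.g3 hp (t := τ 0 * τ 1) (by rw [(h2 0 1).mul_pow, h1, h1, mul_one])
    (fun e => absurd (congrArg π e) (by rw [map_one, map_mul, hτ, hτ]; decide +kernel)) hω
  simp only [Fin.sum_univ_seven, finrank_top, hR.dim] at m1 m2 m3 m4 m5 m6
  simp only [Matrix.cons_val, one_mul, zero_mul, add_zero, zero_add] at m1 m2 m3 m4 m5 m6
  obtain ⟨a3, a4, a5, a6⟩ := arith18 m1 (m2 ▸ m7) (m3 ▸ m8)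
  choose g hg og using fun i : Fin 2 => hx.exists_od (σ := b18 (i.castAdd 3)) (by revert i; decide +kernel)
    (by decide : Odd 3) (by revert i; decide +kernel)
  have g3 : ∀ i, g i ^ 3 = 1 := fun i => hx.pow_eq (og i) (by rw [hg]; revert i; decide +kernel)
  choose z hz using fun i => hx.surj (b18 i) (by revert i; decide +kernel)
  have c1 : π (τ 0 * τ 1 * τ 2) = cc18 0 * cc18 1 * cc18 2 := by rw [map_mul, map_mul, hτ, hτ, hτ]
  obtain ⟨N, hN⟩ := mult_two hx ρ hω (Y {3, 4, 5}) ![τ 0 * τ 1 * τ 2, g 0] (Fin.forall_fin_two.2 ⟨by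
      rw [Matrix.cons_val_zero, ((h2 0 2).mul_left (h2 1 2)).mul_pow, (h2 0 1).mul_pow, h1, h1, h1]; simp, g3 0⟩)
    (by simp only [Matrix.cons_val, c1, hg]; decide +kernel)
    (Fin.forall_fin_two.2 ⟨hI _ _ _ c1 (by decide +kernel), hI _ _ _ (hg 0) (by decide +kernel)⟩) ![z 3, z 4]
    (Fin.forall_fin_two.2 ⟨hI _ _ _ (hz 3) (by decide +kernel), hI _ _ _ (hz 4) (by decide +kernel)⟩)
    ![![1, 2], ![1, 0]] ![![0, 1], ![2, 1]] (by simp only [Fin.forall_fin_two, Matrix.cons_val, c1, hg, hz]; decide +kernel)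
    (by decide +kernel) (c := 2) (cl := byt 0x10101010101010100) (dp := byt 0x40203020103030000) (rep := id)
    (by decide +kernel)
  have n1 := sum_cf (hN ![] ![] ![] (by simp) (Y {3, 4, 5}) (by simp)) ![1, 8] (by decide +kernel)
  have n2 := sum_cf (hN ![_] ![_] ![0] (Fin.forall_fin_one.2 (Ex.gen 0))
    (Y {3, 4, 5} ⊓ (ρ (τ 0 * τ 1 * τ 2)).eigenspace 1) (by simp)) ![1, 2] (by decide +kernel)
  have n3 := sum_cf (hN _ _ 0 Ex.gen (Y {3, 4, 5} ⊓ (ρ (τ 0 * τ 1 * τ 2)).eigenspace 1 ⊓ (ρ (g 0)).eigenspace 1)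
    (by simp [and_assoc])) ![1, 0] (by decide +kernel)
  obtain ⟨P, hP⟩ := mult_two hx ρ hω (Y Finset.univ) g g3 (by rw [hg, hg]; decide +kernel)
    (fun i => hI _ _ _ (hg i) (by revert i; decide +kernel)) ![z 2]
    (Fin.forall_fin_one.2 (hI _ _ _ (hz 2) (by decide +kernel))) ![![0, 1]] ![![2, 0]]
    (by simp only [Fin.forall_fin_one, Matrix.cons_val_fin_one, hg, hz]; decide +kernel)
    (by decide +kernel) (c := 3) (cl := byt 0x20201020201010100) (dp := byt 0x20101030003020000)
    (rep := fun j => j * j) (by decide +kernel)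
  have p1 := sum_cf (hP ![] ![] ![] (by simp) (Y Finset.univ) (by simp)) ![1, 4, 4] (by decide +kernel)
  have p2 := sum_cf (hP ![_] ![_] ![0] (Fin.forall_fin_one.2 (Ex.gen 0)) (Y Finset.univ ⊓ (ρ (g 0)).eigenspace 1)
    (by simp)) ![1, 2, 0] (by decide +kernel)
  have p3 := Submodule.finrank_mono (show Y Finset.univ ⊓ (ρ (g 0)).eigenspace 1 ≤
    Y {3, 4, 5} ⊓ (ρ (τ 0 * τ 1 * τ 2)).eigenspace 1 ⊓ (ρ (g 0)).eigenspace 1 from inf_le_inf_right _ fun v hv => by
      have h3 := fun a => (hY _ _).1 hv a (Finset.mem_univ a)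
      refine ⟨(hY _ _).2 fun a _ => h3 a, End.mem_eigenspace_iff.2 ?_⟩
      rw [act_mul, act_mul, h3, map_smul, h3, map_smul, map_smul, h3, smul_smul, smul_smul, ← pow_three',
        hω.pow_eq_one])
  simp only [Fin.sum_univ_two, Fin.sum_univ_three, Matrix.cons_val] at n1 n2 n3 p1 p2
  omega

/-- An element of order sixteen normalising a 17-cycle. -/
def y19 : Perm (Fin 19) := formPerm [1, 3, 9, 10, 13, 5, 15, 11, 16, 14, 8, 7, 4, 12, 2, 6] * swap 17 18

theorem alt_le8 {F : Type u} [Field F] [Finite F] (p : ℕ) [Fact p.Prime] [CharP F p] {r : ℕ}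
    (h : AltSec (chevE8.group F) r) : r ≤ 17 + (if p = 3 then 1 else 0) := by
  by_contra hr
  split_ifs at hr with hp
  · have : Fact (Nat.Prime 17) := ⟨by decide⟩
    obtain ⟨R, w, hw, h1⟩ := chev_single t8 p (s := 17) (by omega) (fun R => by rw [H39.cardWE8]; decide)
      (h.mono (show 19 ≤ r by omega)) (x := formPerm [0, 1, 2, 3, 4, 5, 6, 7, 8, 9, 10, 11, 12, 13, 14, 15, 16])
      (y := y19) (by decide +kernel) (by decide +kernel)
      (orderOf_eq_prime (by decide +kernel) (by decide +kernel)) (a := 3) (by decide +kernel)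
    have h2 := h1 _ (pow_orderOf_eq_one w)
    rw [pow_eq_pow_mod _ (show y19 ^ 16 = 1 by decide +kernel)] at h2
    refine sixteen R hw (Nat.dvd_of_mod_eq_zero ?_)
    have h3 := Nat.mod_lt (orderOf w) (show 0 < 16 by decide)
    generalize orderOf w % 16 = n at h2 h3
    revert h2
    revert n
    decide +kernel
  · obtain ⟨H, _, _, ρ, π, hR, ev, surj⟩ := exists_r248 p (h.mono (show 18 ≤ r by omega))
    exact reduceRT span248 (b := 16) (by decide) (by decide) (by decide) (by decide) hR hR.rk8
      (fun V _ _ _ H _ _ ρ π => no18 hp) ev surj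

end H5.AE
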